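import Cfsg.Agent.H29.SemisimpleCount

/-!
Characteristic polynomials of the elements of a prime order in `GL_n`.
-/

set_option autoImplicit false

namespace CfsgLib.PrimeClasses

open Polynomial UniqueFactorizationMonoid

variable {F : Type*} [Field F]

theorem factor_dvd {n r : ℕ} (M : Matrix (Fin n) (Fin n) F) (hM : M ^ r = 1) {P : F[X]}
    (hP : Irreducible P) (hd : P ∣ M.charpoly) : P ∣ X ^ r - 1 := by
  classical
  haveI := Fact.mk hP
  rcases Nat.eq_zero_or_pos n with rfl | hn
  · have h0 : M.charpoly = 1 := (Matrix.charpoly_monic M).natDegree_eq_zero.mp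
      (by rw [Matrix.charpoly_natDegree_eq_dim, Fintype.card_fin])
    exact absurd (isUnit_of_dvd_one (h0 ▸ hd)) hP.not_isUnit
  haveI : Nonempty (Fin n) := ⟨⟨0, hn⟩⟩
  set M' := M.map (AdjoinRoot.of P)
  have hroot : (M'.charpoly).IsRoot (AdjoinRoot.root P) := by
    obtain ⟨Q, hQ⟩ := hd
    show M'.charpoly.eval (AdjoinRoot.root P) = 0
    rw [show M'.charpoly = M.charpoly.map (AdjoinRoot.of P) from Matrix.charpoly_map M _, hQ, Polynomial.map_mul,
      eval_mul, eval_map, AdjoinRoot.eval₂_root, zero_mul]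
  have hmem := spectrum.pow_mem_pow M' r (Matrix.mem_spectrum_iff_isRoot_charpoly.mpr hroot)
  have hM' : M' ^ r = 1 := by
    show (RingHom.mapMatrix (AdjoinRoot.of P) M) ^ r = 1
    rw [← map_pow, hM, map_one]
  rw [hM', spectrum.one_eq, Set.mem_singleton_iff] at hmem
  rw [← AdjoinRoot.mk_eq_zero]
  simp [hmem]

theorem pow_eq_one_of_factors [Finite F] {n p r : ℕ} [Fact p.Prime] [CharP F p] (hr : (r : F) ≠ 0)
    (x : GL (Fin n) F) (hx : (orderOf x).Coprime p)
    (h : ∀ P : F[X], Irreducible P → P ∣ (x : Matrix (Fin n) (Fin n) F).charpoly → P ∣ X ^ r - 1) :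
    x ^ r = 1 := by
  classical
  set M := (x : Matrix (Fin n) (Fin n) F)
  have hm : (orderOf x : F) ≠ 0 := Cfsg.Agent.H29.Semisimple.exists_pow_unit hx
  have h1 : minpoly F M ∣ X ^ orderOf x - 1 := minpoly.dvd _ _ (by
    simp [M, ← Units.val_pow_eq_pow_val, pow_orderOf_eq_one])
  have hsq : Squarefree (minpoly F M) :=
    Squarefree.squarefree_of_dvd h1 (X_pow_sub_one_separable_iff.mpr hm).squarefree
  have hne : M.charpoly ≠ 0 := (Matrix.charpoly_monic M).ne_zero
  have h2 : minpoly F M ∣ (X ^ r - 1) ^ Multiset.card (normalizedFactors M.charpoly) := by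
    refine (Matrix.minpoly_dvd_charpoly M).trans ((prod_normalizedFactors hne).symm.dvd.trans ?_)
    rw [← Multiset.prod_replicate, ← Multiset.map_const']
    have h' := Multiset.prod_dvd_prod_of_dvd (S := normalizedFactors M.charpoly) id (fun _ => X ^ r - 1)
      fun P hP => h P (irreducible_of_normalized_factor P hP) (dvd_of_mem_normalizedFactors hP)
    rwa [Multiset.map_id] at h'
  have h3 : minpoly F M ∣ X ^ r - 1 := hsq.isRadical _ _ h2
  obtain ⟨Q, hQ⟩ := h3
  have h4 := congrArg (aeval M) hQ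
  rw [map_mul, minpoly.aeval, zero_mul, map_sub, map_pow, aeval_X, map_one, sub_eq_zero] at h4
  exact Units.ext (by rw [Units.val_pow_eq_pow_val, Units.val_one]; exact h4)

theorem card_sum_le (α : Type*) [Fintype α] [DecidableEq α] (N : ℕ) :
    Nat.card {a : α → ℕ // ∑ x, a x ≤ N} = (N + Fintype.card α).choose (Fintype.card α) := by
  classical
  let e : {a : α → ℕ // ∑ x, a x ≤ N} ≃ {b : Option α → ℕ // ∑ x, b x = N} :=
    { toFun := fun a => ⟨fun o => o.elim (N - ∑ x, a.1 x) a.1, by
        rw [Fintype.sum_option]; simp only [Option.elim]; have := a.2; omega⟩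
      invFun := fun b => ⟨fun x => b.1 (some x), by
        show ∑ x, b.1 (some x) ≤ N; have := b.2; rw [Fintype.sum_option] at this; omega⟩
      left_inv := fun a => rfl
      right_inv := fun b => Subtype.ext (funext fun o => by
        have := b.2
        rw [Fintype.sum_option] at this
        cases o
        · show N - ∑ x, b.1 (some x) = b.1 none; omega
        · rfl) }
  rw [Nat.card_congr (e.trans (Sym.equivNatSumOfFintype (Option α) N).symm), Nat.card_eq_fintype_card,
    Sym.card_sym_eq_choose, Fintype.card_option]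
  rw [show Fintype.card α + 1 + N - 1 = N + Fintype.card α by omega, Nat.choose_symm_add]

/-- The factors of the cyclotomic polynomial of a prime. -/
theorem exists_factors [Fintype F] {p r : ℕ} [Fact p.Prime] [CharP F p] (hr : r.Prime) (hrp : r ≠ p) :
    ∃ S : Finset F[X], (∀ P ∈ S, P.Monic ∧ Irreducible P ∧ P.natDegree = orderOf (Fintype.card F : ZMod r) ∧
        P ≠ X - C 1) ∧
      (∀ P : F[X], P.Monic → Irreducible P → P ∣ X ^ r - 1 → P = X - C 1 ∨ P ∈ S) ∧
      (∀ P ∈ S, P ∣ X ^ r - 1) ∧ S.card = (r - 1) / orderOf (Fintype.card F : ZMod r) := by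
  classical
  haveI := Fact.mk hr
  obtain ⟨f, hp, hf⟩ := FiniteField.card F p
  have hcop : p.Coprime r := (Nat.coprime_primes hp hr).mpr (Ne.symm hrp)
  have hK : Nat.card F = p ^ (f : ℕ) := by rw [Nat.card_eq_fintype_card, hf]
  have hord : orderOf (ZMod.unitOfCoprime (p ^ (f : ℕ)) (hcop.pow_left f)) = orderOf (Fintype.card F : ZMod r) := by
    rw [← orderOf_units, ZMod.coe_unitOfCoprime, hf]
  have hne : cyclotomic r F ≠ 0 := cyclotomic_ne_zero _ _
  have hmul : cyclotomic r F * (X - 1) = X ^ r - 1 := cyclotomic_prime_mul_X_sub_one F r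
  refine ⟨(normalizedFactors (cyclotomic r F)).toFinset, fun P hP => ?_, fun P hm hi hd => ?_, fun P hP => ?_, ?_⟩
  · rw [Multiset.mem_toFinset] at hP
    have hi := irreducible_of_normalized_factor P hP
    refine ⟨?_, hi, by rw [natDegree_of_mem_normalizedFactors_cyclotomic hf hcop hP, hord], ?_⟩
    · rw [← normalize_normalized_factor P hP]; exact monic_normalize hi.ne_zero
    · rintro rfl
      obtain ⟨Q, hQ⟩ := dvd_of_mem_normalizedFactors hP
      have := congrArg (eval 1) hQ
      rw [eval_one_cyclotomic_prime, eval_mul, eval_sub, eval_X, eval_C, sub_self, zero_mul] at this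
      exact hrp.symm ((Nat.prime_dvd_prime_iff_eq hp hr).mp ((CharP.cast_eq_zero_iff F p r).mp this))
  · rw [← hmul] at hd
    rcases hi.prime.dvd_or_dvd hd with h | h
    · exact Or.inr (Multiset.mem_toFinset.mpr ((mem_normalizedFactors_iff' hne).mpr
        ⟨hi, hm.normalize_eq_self, h⟩))
    · rw [← C_1] at h
      exact Or.inl (eq_of_monic_of_associated hm (monic_X_sub_C 1) (hi.associated_of_dvd (irreducible_X_sub_C 1) h))
  · exact (dvd_of_mem_normalizedFactors (Multiset.mem_toFinset.mp hP)).trans ⟨_, hmul.symm⟩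
  · rw [normalizedFactors_cyclotomic_card hf hcop, hord, Nat.totient_prime hr]

end CfsgLib.PrimeClasses
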