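import Cfsg.Agent.PrimeClasses.GL
import Cfsg.Agent.TorusSylow.Arith

/-!
Classes of elements of prime order `r ∣ q - 1` in `PGL_n`.
-/

set_option autoImplicit false

namespace CfsgLib.PrimeClasses

open Polynomial UniqueFactorizationMonoid

universe u

variable {F : Type u} [Field F]

theorem factor_dvd_scalar {n r : ℕ} (M : Matrix (Fin n) (Fin n) F) {c : F}
    (hM : M ^ r = algebraMap F _ c) {P : F[X]} (hP : Irreducible P) (hd : P ∣ M.charpoly) :
    P ∣ X ^ r - C c := by
  classical
  haveI := Fact.mk hP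
  rcases Nat.eq_zero_or_pos n with rfl | hn
  · have h0 : M.charpoly = 1 := (Matrix.charpoly_monic M).natDegree_eq_zero.mp
      (by rw [Matrix.charpoly_natDegree_eq_dim, Fintype.card_fin])
    exact absurd (isUnit_of_dvd_one (h0 ▸ hd)) hP.not_isUnit
  haveI : Nonempty (Fin n) := ⟨⟨0, hn⟩⟩
  set M' := M.map (AdjoinRoot.of P)
  have hroot : (M'.charpoly).IsRoot (AdjoinRoot.root P) := by
    obtain ⟨Q, hQ⟩ := hd
    show M'.charpoly.eval (AdjoinRoot.root P) = 0
    rw [show M'.charpoly = M.charpoly.map (AdjoinRoot.of P) from Matrix.charpoly_map M _, hQ, Polynomial.map_mul,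
      eval_mul, eval_map, AdjoinRoot.eval₂_root, zero_mul]
  have hmem := spectrum.pow_mem_pow M' r (Matrix.mem_spectrum_iff_isRoot_charpoly.mpr hroot)
  have hM' : M' ^ r = algebraMap (AdjoinRoot P) _ (AdjoinRoot.of P c) := by
    show (RingHom.mapMatrix (AdjoinRoot.of P) M) ^ r = _
    rw [← map_pow, hM]
    ext i j
    by_cases h : i = j <;> simp [Matrix.algebraMap_matrix_apply, h]
  rw [hM', spectrum.scalar_eq, Set.mem_singleton_iff] at hmem
  rw [← AdjoinRoot.mk_eq_zero, map_sub, map_pow, AdjoinRoot.mk_X, AdjoinRoot.mk_C, hmem, sub_self]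

theorem pow_eq_scalar_of_factors [Finite F] {n p r : ℕ} [Fact p.Prime] [CharP F p] (hr : (r : F) ≠ 0) {c : F}
    (hc : c ≠ 0) (x : GL (Fin n) F) (hx : (orderOf x).Coprime p)
    (h : ∀ P : F[X], Irreducible P → P ∣ (x : Matrix (Fin n) (Fin n) F).charpoly → P ∣ X ^ r - C c) :
    (x : Matrix (Fin n) (Fin n) F) ^ r = algebraMap F _ c := by
  classical
  set M := (x : Matrix (Fin n) (Fin n) F)
  have hm : (orderOf x : F) ≠ 0 := Cfsg.Agent.H29.Semisimple.exists_pow_unit hx
  have h1 : minpoly F M ∣ X ^ orderOf x - 1 := minpoly.dvd _ _ (by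
    simp [M, ← Units.val_pow_eq_pow_val, pow_orderOf_eq_one])
  have hsq : Squarefree (minpoly F M) :=
    Squarefree.squarefree_of_dvd h1 (X_pow_sub_one_separable_iff.mpr hm).squarefree
  have hne : M.charpoly ≠ 0 := (Matrix.charpoly_monic M).ne_zero
  have h2 : minpoly F M ∣ (X ^ r - C c) ^ Multiset.card (normalizedFactors M.charpoly) := by
    refine (Matrix.minpoly_dvd_charpoly M).trans ((prod_normalizedFactors hne).symm.dvd.trans ?_)
    rw [← Multiset.prod_replicate, ← Multiset.map_const']
    have h' := Multiset.prod_dvd_prod_of_dvd (S := normalizedFactors M.charpoly) id (fun _ => X ^ r - C c)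
      fun P hP => h P (irreducible_of_normalized_factor P hP) (dvd_of_mem_normalizedFactors hP)
    rwa [Multiset.map_id] at h'
  obtain ⟨Q, hQ⟩ := hsq.isRadical _ _ h2
  have h4 := congrArg (aeval M) hQ
  rw [map_mul, minpoly.aeval, zero_mul, map_sub, map_pow, aeval_X, aeval_C, sub_eq_zero] at h4
  exact h4

variable [Fintype F] {n r : ℕ}

local notation "PG" => GL (Fin n) F ⧸ Subgroup.center (GL (Fin n) F)

/-- A scalar matrix as an element of `GL`. -/
abbrev sc (n : ℕ) (t : Fˣ) : GL (Fin n) F := Matrix.GeneralLinearGroup.scalar (Fin n) t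

omit [Fintype F] in
theorem sc_coe (t : Fˣ) : (sc n t : Matrix (Fin n) (Fin n) F) = algebraMap F _ (t : F) := rfl

omit [Fintype F] in
theorem sc_center (t : Fˣ) : sc n t ∈ Subgroup.center (GL (Fin n) F) := by
  rw [Matrix.GeneralLinearGroup.center_eq_range_scalar]
  exact ⟨t, rfl⟩

omit [Fintype F] in
theorem sc_injective (hn : 1 ≤ n) : Function.Injective (sc (F := F) n) := fun s t h => by
  haveI : Nonempty (Fin n) := ⟨⟨0, hn⟩⟩
  exact Units.ext ((algebraMap F (Matrix (Fin n) (Fin n) F)).injective (congrArg Units.val h))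

omit [Fintype F] in
theorem mk_eq_one_iff (g : GL (Fin n) F) : (g : PG) = 1 ↔ ∃ t, g = sc n t := by
  rw [QuotientGroup.eq_one_iff, Matrix.GeneralLinearGroup.center_eq_range_scalar, MonoidHom.mem_range]
  exact ⟨fun ⟨t, h⟩ => ⟨t, h.symm⟩, fun ⟨t, h⟩ => ⟨t, h.symm⟩⟩

omit [Fintype F] in
theorem class_eq_iff (g h : GL (Fin n) F) :
    ConjClasses.mk (g : PG) = ConjClasses.mk (h : PG) ↔ ∃ t, IsConj (sc n t * g) h := by
  rw [ConjClasses.mk_eq_mk_iff_isConj]
  constructor
  · intro hc
    obtain ⟨u, hu⟩ := isConj_iff.mp hc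
    obtain ⟨u, rfl⟩ := QuotientGroup.mk_surjective u
    have h1 : ((h * (u * g * u⁻¹)⁻¹ : GL (Fin n) F) : PG) = 1 := by
      rw [QuotientGroup.mk_mul, QuotientGroup.mk_inv, QuotientGroup.mk_mul, QuotientGroup.mk_mul, QuotientGroup.mk_inv,
        hu, mul_inv_cancel]
    obtain ⟨t, ht⟩ := (mk_eq_one_iff _).mp h1
    refine ⟨t, isConj_iff.mpr ⟨u, ?_⟩⟩
    rw [← mul_assoc u, Subgroup.mem_center_iff.mp (sc_center t) u, mul_assoc (sc n t), mul_assoc (sc n t), ← ht,
      inv_mul_cancel_right]
  · rintro ⟨t, hc⟩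
    have h1 := (QuotientGroup.mk' (Subgroup.center (GL (Fin n) F))).map_isConj hc
    rw [map_mul, show QuotientGroup.mk' (Subgroup.center (GL (Fin n) F)) (sc n t) = 1 from
      (QuotientGroup.eq_one_iff _).mpr (sc_center t), one_mul] at h1
    exact h1

/-- The count function of a labelling. -/
def cnt {m : ℕ} [NeZero r] (w : Fin m → ZMod r) (j : ZMod r) : ℕ := (Finset.univ.filter fun i => w i = j).card

omit [Fintype F] in
theorem sum_cnt [NeZero r] (w : Fin n → ZMod r) : ∑ j, cnt w j = n := by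
  simp only [cnt, ← Finset.card_eq_sum_card_fiberwise (f := w) (s := Finset.univ) (t := Finset.univ)
    (fun i _ => Finset.mem_coe.mpr (Finset.mem_univ _)), Finset.card_univ, Fintype.card_fin]

omit [Fintype F] in
theorem exists_labelling [NeZero r] (a : ZMod r → ℕ) (ha : ∑ j, a j = n) : ∃ w : Fin n → ZMod r, cnt w = a := by
  classical
  let e : Fin n ≃ Σ j, Fin (a j) := (Fintype.equivFinOfCardEq (by simp [ha])).symm
  refine ⟨fun i => (e i).1, funext fun j => ?_⟩
  rw [cnt, ← Fintype.card_subtype, ← Fintype.card_fin (a j)]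
  exact Fintype.card_congr ((e.subtypeEquiv fun i => Iff.rfl).trans (Equiv.sigmaSubtype j))

omit [Fintype F] in
theorem cnt_shift [NeZero r] (w : Fin n → ZMod r) (k : ZMod r) :
    cnt (fun i => k + w i) = fun j => cnt w (j - k) := by
  funext j
  simp only [cnt]
  congr 1
  refine Finset.filter_congr fun i _ => ?_
  rw [eq_sub_iff_add_eq, add_comm]

/-- The number of shift classes of a type with few fixed points. -/
theorem card_orbit_formula {A S : Type*} [Finite A] (r f : ℕ) (hr : 0 < r) (Ψ : A → S) (hs : Function.Surjective Ψ)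
    (fix : A → Prop) (hf : Nat.card {a // fix a} = f)
    (h1 : ∀ a, fix a → Nat.card {b // Ψ b = Ψ a} = 1) (h2 : ∀ a, ¬ fix a → Nat.card {b // Ψ b = Ψ a} = r) :
    Nat.card S = (Nat.card A - f) / r + f := by
  classical
  haveI := Fintype.ofFinite A
  haveI := Finite.of_surjective Ψ hs
  haveI := Fintype.ofFinite S
  have hfix : ∀ a b, Ψ a = Ψ b → fix a → fix b := by
    intro a b h ha
    have := h1 a ha
    obtain ⟨c, hc⟩ := Nat.card_eq_one_iff_exists.mp this
    have e : (⟨b, h.symm⟩ : {b // Ψ b = Ψ a}) = ⟨a, rfl⟩ := (hc _).trans (hc _).symm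
    rwa [show b = a from congrArg Subtype.val e]
  set T := (Finset.univ.filter fix).image Ψ with hT
  have hTc : T.card = f := by
    rw [hT, Finset.card_image_of_injOn, ← Fintype.card_subtype, ← Nat.card_eq_fintype_card, hf]
    intro a ha b _ hab
    obtain ⟨c, hc⟩ := Nat.card_eq_one_iff_exists.mp (h1 a (Finset.mem_filter.mp ha).2)
    have e : (⟨b, hab.symm⟩ : {b // Ψ b = Ψ a}) = ⟨a, rfl⟩ := (hc _).trans (hc _).symm
    exact (congrArg Subtype.val e).symm
  have hfib : ∀ s, (Finset.univ.filter fun b => Ψ b = s).card = if s ∈ T then 1 else r := by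
    intro s
    obtain ⟨a, rfl⟩ := hs s
    rw [← Fintype.card_subtype, ← Nat.card_eq_fintype_card]
    by_cases ha : fix a
    · rw [if_pos (Finset.mem_image_of_mem _ (Finset.mem_filter.mpr ⟨Finset.mem_univ _, ha⟩)), h1 a ha]
    · rw [if_neg (fun h => ?_), h2 a ha]
      obtain ⟨b, hb, hb'⟩ := Finset.mem_image.mp h
      exact ha (hfix b a hb' (Finset.mem_filter.mp hb).2)
  have h := Finset.card_eq_sum_card_fiberwise (f := Ψ) (s := Finset.univ) (t := Finset.univ)
    (fun i _ => Finset.mem_coe.mpr (Finset.mem_univ _))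
  simp only [hfib] at h
  rw [Finset.sum_ite, Finset.sum_const, Finset.sum_const, smul_eq_mul, smul_eq_mul, mul_one, Finset.filter_not,
    show Finset.univ.filter (fun s => s ∈ T) = T by ext; simp, Finset.card_sdiff_of_subset (Finset.subset_univ _),
    Finset.card_univ, Finset.card_univ, hTc, ← Nat.card_eq_fintype_card, ← Nat.card_eq_fintype_card] at h
  have hle : f ≤ Nat.card S := by
    rw [← hTc, Nat.card_eq_fintype_card]
    exact Finset.card_le_univ T
  rw [h, Nat.add_sub_cancel_left, Nat.mul_div_cancel _ hr]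
  omega

variable [hr : Fact r.Prime] (z : ZMod r → Fˣ)

/-- The diagonal element of a labelling. -/
noncomputable def diagElt (w : Fin n → ZMod r) : GL (Fin n) F :=
  Matrix.GeneralLinearGroup.mkOfDetNeZero (Matrix.diagonal fun i => (z (w i) : F)) (by
    rw [Matrix.det_diagonal]
    exact Finset.prod_ne_zero_iff.mpr fun i _ => Units.ne_zero _)

omit [Fintype F] in
theorem diagElt_coe (w : Fin n → ZMod r) :
    (diagElt z w : Matrix (Fin n) (Fin n) F) = Matrix.diagonal fun i => (z (w i) : F) := rfl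

omit [Fintype F] in
theorem charpoly_diagElt (w : Fin n → ZMod r) :
    (diagElt z w : Matrix (Fin n) (Fin n) F).charpoly = ∏ j, (X - C (z j : F)) ^ cnt w j := by
  rw [diagElt_coe, Matrix.charpoly_diagonal, ← Finset.prod_fiberwise Finset.univ w]
  refine Finset.prod_congr rfl fun j _ => ?_
  rw [cnt, ← Finset.prod_const]
  exact Finset.prod_congr rfl fun i hi => by rw [(Finset.mem_filter.mp hi).2]

theorem coprime_of_pow_scalar {p : ℕ} [Fact p.Prime] [CharP F p] (hrq : r ∣ Fintype.card F - 1)
    {g : GL (Fin n) F} {t : Fˣ} (hg : g ^ r = sc n t) : (orderOf g).Coprime p := by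
  classical
  have h1 : g ^ (r * (Fintype.card F - 1)) = 1 := by
    rw [pow_mul, hg, sc, ← map_pow, show t ^ (Fintype.card F - 1) = 1 from by
      rw [← Fintype.card_units]; exact pow_card_eq_one, map_one]
  refine Nat.Coprime.coprime_dvd_left (orderOf_dvd_of_pow_eq_one h1) ?_
  obtain ⟨f, hp, hf⟩ := FiniteField.card F p
  have hq : (Fintype.card F - 1).Coprime p := by
    refine ((Nat.Prime.coprime_iff_not_dvd hp).mpr fun h => ?_).symm
    have hd : p ∣ Fintype.card F := hf ▸ dvd_pow_self p f.2.ne'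
    have := Nat.dvd_sub hd h
    rw [Nat.sub_sub_self Fintype.card_pos] at this
    exact hp.one_lt.ne' (Nat.dvd_one.mp this)
  exact Nat.Coprime.mul_left (hq.coprime_dvd_left hrq) hq

/-- The count. -/
theorem card_pgl (hn : 2 ≤ n) (hrq : r ∣ Fintype.card F - 1) :
    Nat.card {K : ConjClasses PG // ∃ g : PG, ConjClasses.mk g = K ∧ orderOf g = r} =
      (Nat.choose (n + r - 1) (r - 1) - r - (if r ∣ n then 1 else 0)) / r + r * (if r ∣ n then 1 else 0) := by
  classical
  obtain ⟨p, hchar⟩ := CharP.exists F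
  haveI := hchar
  haveI : Fact p.Prime := ⟨CharP.char_is_prime F p⟩
  have hrP : r.Prime := hr.out
  haveI : NeZero r := ⟨hrP.ne_zero⟩
  obtain ⟨u0, hu0⟩ := TorusSylow.exists_orderOf_of_dvd (H := Fˣ) (m := r)
    (by rwa [Nat.card_units, Nat.card_eq_fintype_card])
  obtain ⟨e, he⟩ := TorusSylow.exists_zmod_hom hu0
  let z : ZMod r → Fˣ := fun j => e (Multiplicative.ofAdd j)
  have hzadd : ∀ j k, z (j + k) = z j * z k := fun j k => by simp only [z, ofAdd_add, map_mul]
  have hz0 : z 0 = 1 := by simp only [z, ofAdd_zero, map_one]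
  have hzinj : Function.Injective z := fun j k h => Multiplicative.ofAdd.injective (he h)
  have hzr : ∀ j, z j ^ r = 1 := fun j => by
    simp only [z, ← map_pow, ← ofAdd_nsmul, nsmul_eq_mul, ZMod.natCast_self, zero_mul, ofAdd_zero, map_one]
  have hzall : ∀ t : Fˣ, t ^ r = 1 → ∃ j, t = z j := by
    intro t ht
    have hle : e.range ≤ (powMonoidHom r : Fˣ →* Fˣ).ker := by
      rintro _ ⟨j, rfl⟩
      rw [MonoidHom.mem_ker, powMonoidHom_apply, ← ofAdd_toAdd j]
      exact hzr _
    have heq := Subgroup.eq_of_le_of_card_ge hle (le_of_eq (by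
      rw [IsCyclic.card_powMonoidHom_ker, ← Nat.card_congr (MonoidHom.ofInjective he).toEquiv,
        Nat.card_congr Multiplicative.toAdd, Nat.card_zmod, Nat.card_units, Nat.card_eq_fintype_card,
        Nat.gcd_eq_right hrq]))
    obtain ⟨j, hj⟩ := (heq.symm ▸ (by simpa using ht : t ∈ (powMonoidHom r : Fˣ →* Fˣ).ker) : t ∈ e.range)
    exact ⟨j.toAdd, hj.symm⟩
  have hrp : r ≠ p := by
    intro h
    obtain ⟨f, hp, hf⟩ := FiniteField.card F p
    have h2 := Nat.dvd_sub (show r ∣ Fintype.card F by rw [hf, h]; exact dvd_pow_self p f.2.ne') hrq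
    rw [Nat.sub_sub_self Fintype.card_pos] at h2
    exact hrP.one_lt.ne' (Nat.dvd_one.mp h2)
  have hrF : (r : F) ≠ 0 := fun h =>
    hrp ((Nat.prime_dvd_prime_iff_eq (Fact.out : p.Prime) hrP).mp ((CharP.cast_eq_zero_iff F p r).mp h)).symm
  have hDr : ∀ w : Fin n → ZMod r, diagElt z w ^ r = sc n 1 := fun w => Units.ext (by
    rw [Units.val_pow_eq_pow_val, sc_coe, diagElt_coe, Matrix.diagonal_pow, Units.val_one, map_one,
      ← Matrix.diagonal_one]
    congr 1
    funext i
    rw [Pi.pow_apply, ← Units.val_pow_eq_pow_val, hzr, Units.val_one])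
  have hscD : ∀ k w, sc n (z k) * diagElt z w = diagElt z (fun i => k + w i) := fun k w => Units.ext (by
    rw [Units.val_mul, sc_coe, diagElt_coe, diagElt_coe, Matrix.algebraMap_eq_diagonal, Matrix.diagonal_mul_diagonal]
    congr 1
    funext i
    simp [hzadd])
  have hcp : ∀ (w : Fin n → ZMod r), (diagElt z w : Matrix (Fin n) (Fin n) F).charpoly.roots =
      ∑ j, Multiset.replicate (cnt w j) (z j : F) := fun w => by
    rw [charpoly_diagElt, roots_prod _ _ (Finset.prod_ne_zero_iff.mpr fun j _ => pow_ne_zero _ (X_sub_C_ne_zero _))]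
    simp only [roots_pow, roots_X_sub_C, Multiset.nsmul_singleton]
    rfl
  have hcnt : ∀ w w' : Fin n → ZMod r, (diagElt z w : Matrix (Fin n) (Fin n) F).charpoly =
      (diagElt z w' : Matrix (Fin n) (Fin n) F).charpoly → cnt w = cnt w' := by
    intro w w' h
    funext j
    have h' := congrArg (fun P => P.roots.count (z j : F)) h
    simp only [hcp, Multiset.count_sum', Multiset.count_replicate] at h'
    rw [Finset.sum_eq_single j (fun k _ hk => if_neg (fun h => hk (hzinj (Units.ext h)))) (fun h => absurd (Finset.mem_univ j) h),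
      Finset.sum_eq_single j (fun k _ hk => if_neg (fun h => hk (hzinj (Units.ext h)))) (fun h => absurd (Finset.mem_univ j) h)] at h'
    simpa using h'
  have hrel : ∀ w w' : Fin n → ZMod r, ConjClasses.mk (diagElt z w : PG) = ConjClasses.mk (diagElt z w' : PG) ↔
      ∃ k, cnt w' = fun j => cnt w (j - k) := by
    intro w w'
    rw [class_eq_iff]
    constructor
    · rintro ⟨t, ht⟩
      obtain ⟨u, hu⟩ := isConj_iff.mp ht
      have h2 := congrArg (fun g => g ^ r) hu
      simp only [conj_pow, hDr] at h2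
      have h3 : t ^ r = 1 := by
        have hc : Commute (sc n t) (diagElt z w) := (Subgroup.mem_center_iff.mp (sc_center t) _).symm
        rw [hc.mul_pow, hDr, show sc (F := F) n 1 = 1 from map_one _, mul_one, sc, ← map_pow] at h2
        rw [Subgroup.mem_center_iff.mp (sc_center _) u, mul_inv_cancel_right] at h2
        exact sc_injective (by omega) (h2.trans (map_one _).symm)
      obtain ⟨k, rfl⟩ := hzall t h3
      refine ⟨k, ?_⟩
      rw [← cnt_shift]
      apply hcnt
      rw [← hu, ← hscD, Units.val_mul, Units.val_mul, Matrix.charpoly_mul_comm, ← mul_assoc, ← Units.val_mul,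
        inv_mul_cancel, Units.val_one, one_mul]
    · rintro ⟨k, hk⟩
      refine ⟨z k, Cfsg.Agent.H29.Semisimple.gl_conj_of_charpoly (p := p) _ _ ?_ ?_ ?_⟩
      · rw [hscD]; exact coprime_of_pow_scalar hrq (hDr _)
      · exact coprime_of_pow_scalar hrq (hDr _)
      · rw [hscD, charpoly_diagElt, charpoly_diagElt, cnt_shift, hk]
  -- elements of order r
  have hord : ∀ g : GL (Fin n) F, orderOf (g : PG) = r ↔ (∃ t, g ^ r = sc n t) ∧ ¬ ∃ t, g = sc n t := by
    intro g
    constructor
    · intro h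
      refine ⟨(mk_eq_one_iff _).mp (by rw [QuotientGroup.mk_pow, ← h, pow_orderOf_eq_one]), fun h' => ?_⟩
      rw [(mk_eq_one_iff g).mpr h', orderOf_one] at h
      exact hrP.one_lt.ne h
    · rintro ⟨h1, h2⟩
      exact orderOf_eq_prime (by rw [← QuotientGroup.mk_pow]; exact (mk_eq_one_iff _).mpr h1)
        (fun h => h2 ((mk_eq_one_iff g).mp h))
  -- split part
  let A := {a : ZMod r → ℕ // ∑ j, a j = n ∧ ∀ j, a j < n}
  have hlab : ∀ a : A, ∃ w : Fin n → ZMod r, cnt w = a.1 := fun a => exists_labelling a.1 a.2.1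
  choose wa hwa using hlab
  let Sp := {K : ConjClasses PG // ∃ g : GL (Fin n) F, ConjClasses.mk (g : PG) = K ∧ g ^ r = sc n 1 ∧ orderOf (g : PG) = r}
  have hns : ∀ a : A, orderOf (diagElt z (wa a) : PG) = r := by
    intro a
    refine (hord _).mpr ⟨⟨1, hDr _⟩, fun ⟨t, ht⟩ => ?_⟩
    have h1 : ∀ i, (z (wa a i) : F) = t := fun i => by
      have := congrArg (fun g : GL (Fin n) F => (g : Matrix (Fin n) (Fin n) F) i i) ht
      simpa [diagElt_coe, sc_coe, Matrix.algebraMap_matrix_apply] using this
    have i0 : Fin n := ⟨0, by omega⟩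
    have h2 : cnt (wa a) (wa a i0) = n := by
      rw [cnt, Finset.filter_true_of_mem fun i _ => hzinj (Units.ext ((h1 i).trans (h1 i0).symm)), Finset.card_univ,
        Fintype.card_fin]
    have := a.2.2 (wa a i0)
    rw [← hwa a, h2] at this
    exact lt_irrefl _ this
  let Ψ : A → Sp := fun a => ⟨ConjClasses.mk (diagElt z (wa a) : PG), diagElt z (wa a), rfl, hDr _, hns a⟩
  have hΨ : ∀ a b, Ψ a = Ψ b ↔ ∃ k, b.1 = fun j => a.1 (j - k) := fun a b => by
    rw [← hwa a, ← hwa b, ← hrel]
    exact Subtype.ext_iff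
  have hΨs : Function.Surjective Ψ := by
    rintro ⟨K, g, rfl, hg, ho⟩
    set M := (g : Matrix (Fin n) (Fin n) F)
    have hMr : M ^ r = algebraMap F _ (1 : F) := by
      rw [show M ^ r = ((g ^ r : GL (Fin n) F) : Matrix (Fin n) (Fin n) F) from (Units.val_pow_eq_pow_val _ _).symm,
        hg, sc_coe, Units.val_one]
    have hfac : ∀ P ∈ normalizedFactors M.charpoly, ∃ j, P = X - C (z j : F) := by
      intro P hP
      obtain ⟨hi, hn', hd⟩ := (mem_normalizedFactors_iff' (Matrix.charpoly_monic M).ne_zero).mp hP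
      have h1 := factor_dvd_scalar M hMr hi hd
      have h2 : (X ^ r - C (1 : F)) = ∏ j : ZMod r, (X - C (z j : F)) := by
        refine eq_of_monic_of_associated (monic_X_pow_sub_C _ hrP.ne_zero) (monic_prod_of_monic _ _ fun j _ => monic_X_sub_C _) ?_
        refine (associated_of_dvd_of_natDegree_le ?_ (X_pow_sub_C_ne_zero hrP.pos _) ?_).symm
        · refine Finset.prod_dvd_of_coprime (fun i _ j _ hij => ?_) fun j _ => ?_
          · exact isCoprime_X_sub_C_of_isUnit_sub (sub_ne_zero.mpr fun h => hij (hzinj (Units.ext h))).isUnit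
          · rw [dvd_iff_isRoot]
            simp [← Units.val_pow_eq_pow_val, hzr]
        · rw [natDegree_X_pow_sub_C, natDegree_prod _ _ fun j _ => X_sub_C_ne_zero _]
          simp
      rw [h2] at h1
      obtain ⟨j, -, hj⟩ := (hi.prime.dvd_finsetProd_iff _).mp h1
      refine ⟨j, eq_of_monic_of_associated ?_ (monic_X_sub_C _) (hi.associated_of_dvd (irreducible_X_sub_C _) hj)⟩
      rw [← hn']
      exact monic_normalize hi.ne_zero
    let a : ZMod r → ℕ := fun j => (normalizedFactors M.charpoly).count (X - C (z j : F))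
    have hN : normalizedFactors M.charpoly = ∑ j, Multiset.replicate (a j) (X - C (z j : F)) := by
      ext Q
      simp only [Multiset.count_sum', Multiset.count_replicate]
      by_cases hQ : ∃ j, Q = X - C (z j : F)
      · obtain ⟨j, rfl⟩ := hQ
        rw [Finset.sum_eq_single j (fun k _ hk => if_neg (fun h => hk (hzinj (Units.ext (C_injective (sub_right_injective h))))))
          (fun h => absurd (Finset.mem_univ j) h), if_pos rfl]
      · rw [Multiset.count_eq_zero.mpr fun h => hQ (hfac Q h),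
          Finset.sum_eq_zero fun j _ => if_neg (fun h : X - C (z j : F) = Q => hQ ⟨j, h.symm⟩)]
    have hprod : M.charpoly = ∏ j, (X - C (z j : F)) ^ a j := by
      refine eq_of_monic_of_associated (Matrix.charpoly_monic M) (monic_prod_of_monic _ _ fun j _ => (monic_X_sub_C _).pow _) ?_
      refine (prod_normalizedFactors (Matrix.charpoly_monic M).ne_zero).symm.trans ?_
      rw [hN, Multiset.prod_sum]
      simp only [Multiset.prod_replicate]
      exact Associated.refl _
    have hsum : ∑ j, a j = n := by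
      have h1 : M.charpoly.natDegree = n := by rw [Matrix.charpoly_natDegree_eq_dim, Fintype.card_fin]
      rw [hprod, natDegree_prod _ _ fun j _ => pow_ne_zero _ (X_sub_C_ne_zero _)] at h1
      simpa using h1
    obtain ⟨w, hw⟩ := exists_labelling a hsum
    have hgw : IsConj g (diagElt z w) := Cfsg.Agent.H29.Semisimple.gl_conj_of_charpoly (p := p) _ _
      (coprime_of_pow_scalar hrq hg) (coprime_of_pow_scalar hrq (hDr _)) (by rw [charpoly_diagElt, hw]; exact hprod)
    have hA : ∀ j, a j < n := by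
      intro j
      refine lt_of_le_of_ne (hsum ▸ Finset.single_le_sum (fun k _ => Nat.zero_le (a k)) (Finset.mem_univ j)) fun hj => ?_
      have h1 : ∀ i, w i = j := by
        intro i
        by_contra hi
        have : (Finset.univ.filter fun i => w i = j).card < n := by
          refine (Finset.card_lt_card ((Finset.ssubset_iff_of_subset (Finset.subset_univ _)).mpr ⟨i, Finset.mem_univ _, ?_⟩)).trans_eq ?_
          · simp [hi]
          · simp
        rw [← hw] at hj
        exact this.ne hj
      obtain ⟨u, hu⟩ := isConj_iff.mp hgw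
      apply ((hord g).mp ho).2
      refine ⟨z j, ?_⟩
      have hD : diagElt z w = sc n (z j) := Units.ext (by
        rw [diagElt_coe, sc_coe, Matrix.algebraMap_eq_diagonal]
        congr 1; funext i; simp [h1 i])
      rw [hD, mul_inv_eq_iff_eq_mul, ← Subgroup.mem_center_iff.mp (sc_center (z j)) u] at hu
      exact mul_left_cancel hu
    refine ⟨⟨a, hsum, hA⟩, Subtype.ext ?_⟩
    show ConjClasses.mk (diagElt z (wa _) : PG) = ConjClasses.mk (g : PG)
    rw [(hrel _ w).mpr ⟨0, by rw [hw, hwa]; simp⟩, ConjClasses.mk_eq_mk_iff_isConj]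
    exact (QuotientGroup.mk' _).map_isConj hgw.symm
  let fixA : A → Prop := fun a => ∀ j, a.1 j = a.1 0
  have hfixn : ∀ a : A, fixA a → r * a.1 0 = n := fun a ha => by
    have := a.2.1
    rw [Finset.sum_congr rfl fun j _ => ha j, Finset.sum_const, Finset.card_univ, ZMod.card, smul_eq_mul] at this
    exact this
  have hAfin : Finite A := by
    refine Finite.of_injective (fun a : A => (fun j => (⟨a.1 j, a.2.2 j⟩ : Fin n))) fun a b h => ?_
    exact Subtype.ext (funext fun j => congrArg Fin.val (congrFun h j))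
  have hcardA : Nat.card A = Nat.choose (n + r - 1) (r - 1) - r := by
    have e1 : {a : ZMod r → ℕ // ∑ j, a j = n} ≃ Sym (ZMod r) n := (Sym.equivNatSumOfFintype _ _).symm
    have hall : Nat.card {a : ZMod r → ℕ // ∑ j, a j = n} = Nat.choose (n + r - 1) (r - 1) := by
      rw [Nat.card_congr e1, Nat.card_eq_fintype_card, Sym.card_sym_eq_choose, ZMod.card]
      rw [show r + n - 1 = n + (r - 1) by have := hrP.pos; omega, show n + r - 1 = n + (r - 1) by have := hrP.pos; omega,
        Nat.choose_symm_add]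
    haveI : Finite {a : ZMod r → ℕ // ∑ j, a j = n} := Finite.of_equiv _ e1.symm
    let bad := {a : {a : ZMod r → ℕ // ∑ j, a j = n} // ¬ ∀ j, a.1 j < n}
    have hbad : Nat.card bad = r := by
      have hb : Function.Bijective (fun j : ZMod r => (⟨⟨Pi.single j n, by simp⟩, fun h => by simpa using h j⟩ : bad)) := by
        constructor
        · intro j k h
          by_contra hne
          have := congrFun (congrArg (fun b : bad => b.1.1) h) j
          simp [Pi.single_eq_of_ne hne] at this
          omega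
        · rintro ⟨⟨a, ha⟩, hb⟩
          push Not at hb
          obtain ⟨j, hj⟩ := hb
          change n ≤ a j at hj
          refine ⟨j, Subtype.ext (Subtype.ext (funext fun k => ?_))⟩
          have hle : a j ≤ n := ha ▸ Finset.single_le_sum (fun k _ => Nat.zero_le (a k)) (Finset.mem_univ j)
          by_cases hk : k = j
          · subst hk
            show (Pi.single k n : ZMod r → ℕ) k = a k
            rw [Pi.single_eq_same]
            omega
          · have := Finset.add_sum_erase Finset.univ a (Finset.mem_univ j)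
            have hk' : a k ≤ ∑ x ∈ Finset.univ.erase j, a x :=
              Finset.single_le_sum (fun k _ => Nat.zero_le (a k)) (Finset.mem_erase.mpr ⟨hk, Finset.mem_univ k⟩)
            show (Pi.single j n : ZMod r → ℕ) k = a k
            rw [Pi.single_eq_of_ne hk]
            omega
      rw [← Nat.card_eq_of_bijective _ hb, Nat.card_zmod]
    have e2 : A ≃ {a : {a : ZMod r → ℕ // ∑ j, a j = n} // ∀ j, a.1 j < n} :=
      (Equiv.subtypeSubtypeEquivSubtypeInter (fun a : ZMod r → ℕ => ∑ j, a j = n) (fun a => ∀ j, a j < n)).symm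
    have h3 := Nat.card_congr (Equiv.sumCompl (fun a : {a : ZMod r → ℕ // ∑ j, a j = n} => ∀ j, a.1 j < n))
    rw [Nat.card_sum, ← Nat.card_congr e2, hbad, hall] at h3
    omega
  have hfA : Nat.card {a : A // fixA a} = if r ∣ n then 1 else 0 := by
    split_ifs with h
    · obtain ⟨m, hm⟩ := h
      have hmn : m < n := by
        have := hrP.two_le
        rcases Nat.eq_zero_or_pos m with h0 | h0
        · subst h0; omega
        · have := Nat.mul_le_mul_right m this; omega
      rw [Nat.card_eq_one_iff_exists]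
      refine ⟨⟨⟨fun _ => m, by simp [hm], fun _ => hmn⟩, fun _ => rfl⟩, fun b => Subtype.ext (Subtype.ext (funext fun j => ?_))⟩
      have := hfixn b.1 b.2
      rw [b.2 j]
      exact Nat.eq_of_mul_eq_mul_left hrP.pos (this.trans hm)
    · rw [Nat.card_eq_zero]
      exact Or.inl ⟨fun b => h ⟨_, (hfixn b.1 b.2).symm⟩⟩
  have hSp : Nat.card Sp = (Nat.card A - (if r ∣ n then 1 else 0)) / r + (if r ∣ n then 1 else 0) := by
    refine card_orbit_formula r _ hrP.pos Ψ hΨs fixA hfA (fun a ha => ?_) fun a ha => ?_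
    · rw [Nat.card_eq_one_iff_exists]
      refine ⟨⟨a, rfl⟩, fun b => Subtype.ext (Subtype.ext ?_)⟩
      obtain ⟨k, hk⟩ := (hΨ a b.1).mp b.2.symm
      rw [hk]
      funext j
      rw [ha (j - k), ha j]
    · have sh : ∀ k, ∑ j, a.1 (j - k) = n := fun k => by
        rw [Fintype.sum_equiv (Equiv.subRight k) (fun j => a.1 (j - k)) a.1 fun j => rfl]; exact a.2.1
      let φ : ZMod r → {b // Ψ b = Ψ a} := fun k => ⟨⟨fun j => a.1 (j - k), sh k, fun j => a.2.2 _⟩,
        ((hΨ a _).mpr ⟨k, rfl⟩).symm⟩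
      have hφ : Function.Bijective φ := by
        constructor
        · intro k l h
          by_contra hkl
          have hper : ∀ j, a.1 (j + (k - l)) = a.1 j := fun j => by
            have := congrFun (congrArg (fun b : {b // Ψ b = Ψ a} => b.1.1) h) (j + k)
            simp only [φ, add_sub_cancel_right] at this
            rw [this]
            congr 1
            abel_nf
          apply ha
          intro j
          have hm : ∀ m : ℕ, a.1 ((m : ZMod r) * (k - l)) = a.1 0 := by
            intro m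
            induction m with
            | zero => simp
            | succ m ih => rw [Nat.cast_succ, add_mul, one_mul, hper, ih]
          have hd : k - l ≠ 0 := sub_ne_zero.mpr hkl
          have := hm (j * (k - l)⁻¹).val
          rwa [ZMod.natCast_zmod_val, mul_assoc, inv_mul_cancel₀ hd, mul_one] at this
        · rintro ⟨b, hb⟩
          obtain ⟨k, hk⟩ := (hΨ a b).mp hb.symm
          exact ⟨k, Subtype.ext (Subtype.ext hk.symm)⟩
      rw [← Nat.card_eq_of_bijective φ hφ, Nat.card_zmod]
  -- the non-split part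
  set R := (powMonoidHom r : Fˣ →* Fˣ).range with hR
  let Ns := {K : ConjClasses PG // ∃ (g : GL (Fin n) F) (t : Fˣ), ConjClasses.mk (g : PG) = K ∧ g ^ r = sc n t ∧ t ∉ R}
  have hinv : ∀ (g g' : GL (Fin n) F) (t t' : Fˣ), g ^ r = sc n t → g' ^ r = sc n t' →
      ConjClasses.mk (g : PG) = ConjClasses.mk (g' : PG) → (t : Fˣ ⧸ R) = (t' : Fˣ ⧸ R) := by
    intro g g' t t' hg hg' h
    obtain ⟨s, hs⟩ := (class_eq_iff g g').mp h
    obtain ⟨u, hu⟩ := isConj_iff.mp hs
    have hc : Commute (sc n s) g := (Subgroup.mem_center_iff.mp (sc_center s) g).symm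
    have h2 : (u * (sc n s * g) * u⁻¹) ^ r = g' ^ r := by rw [hu]
    rw [conj_pow, hc.mul_pow, hg, hg', sc, ← map_pow, ← map_mul, Subgroup.mem_center_iff.mp (sc_center _) u,
      mul_inv_cancel_right] at h2
    have h3 := sc_injective (by omega) h2
    rw [QuotientGroup.eq, ← h3]
    exact ⟨s, by rw [powMonoidHom_apply, mul_comm (s ^ r), inv_mul_cancel_left]⟩
  have hcp2 : ∀ (g : GL (Fin n) F) (t : Fˣ), g ^ r = sc n t → t ∉ R →
      r ∣ n ∧ (g : Matrix (Fin n) (Fin n) F).charpoly = (X ^ r - C (t : F)) ^ (n / r) := by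
    intro g t hg ht
    set M := (g : Matrix (Fin n) (Fin n) F)
    have hMr : M ^ r = algebraMap F _ (t : F) := by
      rw [show M ^ r = ((g ^ r : GL (Fin n) F) : Matrix (Fin n) (Fin n) F) from (Units.val_pow_eq_pow_val _ _).symm, hg, sc_coe]
    have hirr : Irreducible (X ^ r - C (t : F)) := X_pow_sub_C_irreducible_of_prime hrP fun b hb => ht
      ⟨Units.mk0 b (fun h => t.ne_zero (by rw [← hb, h, zero_pow hrP.ne_zero])), Units.ext (by simpa using hb)⟩
    have hN : ∀ P ∈ normalizedFactors M.charpoly, P = X ^ r - C (t : F) := fun P hP => by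
      obtain ⟨hi, hn', hd⟩ := (mem_normalizedFactors_iff' (Matrix.charpoly_monic M).ne_zero).mp hP
      refine eq_of_monic_of_associated ?_ (monic_X_pow_sub_C _ hrP.ne_zero) (hi.associated_of_dvd hirr (factor_dvd_scalar M hMr hi hd))
      rw [← hn']; exact monic_normalize hi.ne_zero
    have hc : M.charpoly = (X ^ r - C (t : F)) ^ Multiset.card (normalizedFactors M.charpoly) := by
      refine eq_of_monic_of_associated (Matrix.charpoly_monic M) ((monic_X_pow_sub_C _ hrP.ne_zero).pow _) ?_
      refine (prod_normalizedFactors (Matrix.charpoly_monic M).ne_zero).symm.trans ?_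
      rw [Multiset.eq_replicate_card.mpr hN, Multiset.prod_replicate, Multiset.card_replicate]
      exact Associated.refl _
    have hd : n = Multiset.card (normalizedFactors M.charpoly) * r := by
      have h1 : M.charpoly.natDegree = n := by rw [Matrix.charpoly_natDegree_eq_dim, Fintype.card_fin]
      rw [hc, natDegree_pow, natDegree_X_pow_sub_C] at h1
      omega
    refine ⟨⟨_, by rw [hd, mul_comm]⟩, ?_⟩
    have he : n / r = Multiset.card (normalizedFactors M.charpoly) := by
      conv_lhs => rw [hd, Nat.mul_div_cancel _ hrP.pos]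
    rw [he]; exact hc
  have hNs : Nat.card Ns = (r - 1) * (if r ∣ n then 1 else 0) := by
    split_ifs with h
    · have hex : ∀ t : Fˣ, ∃ g : GL (Fin n) F, g ^ r = sc n t := by
        intro t
        obtain ⟨g, hg, hgc⟩ := Cfsg.Agent.H29.Semisimple.exists_matrix (n := n) p ((X ^ r - C (t : F)) ^ (n / r))
          ((monic_X_pow_sub_C _ hrP.ne_zero).pow _) (by rw [natDegree_pow, natDegree_X_pow_sub_C, Nat.div_mul_cancel h])
          (by simp [zero_pow hrP.ne_zero])
        refine ⟨g, Units.ext ?_⟩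
        rw [Units.val_pow_eq_pow_val, sc_coe]
        refine pow_eq_scalar_of_factors hrF t.ne_zero g hg fun P hP hd => ?_
        rw [hgc] at hd
        exact hP.prime.dvd_of_dvd_pow hd
      choose g hg using hex
      have hout : ∀ c : Fˣ ⧸ R, c ≠ 1 → c.out ∉ R := fun c hc h => hc (by
        rw [← QuotientGroup.out_eq' c]; exact (QuotientGroup.eq_one_iff _).mpr h)
      let Φ : {c : Fˣ ⧸ R // c ≠ 1} → Ns := fun c =>
        ⟨ConjClasses.mk (g c.1.out : PG), g c.1.out, c.1.out, rfl, hg _, hout c.1 c.2⟩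
      have hΦ : Function.Bijective Φ := by
        constructor
        · intro c d h
          have := hinv _ _ _ _ (hg c.1.out) (hg d.1.out) (congrArg Subtype.val h)
          rw [QuotientGroup.out_eq', QuotientGroup.out_eq'] at this
          exact Subtype.ext this
        · rintro ⟨K, x, t, rfl, hx, ht⟩
          have hc1 : (t : Fˣ ⧸ R) ≠ 1 := fun h => ht ((QuotientGroup.eq_one_iff _).mp h)
          refine ⟨⟨t, hc1⟩, Subtype.ext ?_⟩
          show ConjClasses.mk (g (t : Fˣ ⧸ R).out : PG) = _
          set t' := (t : Fˣ ⧸ R).out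
          obtain ⟨s, hs⟩ := (QuotientGroup.eq.mp (QuotientGroup.out_eq' (t : Fˣ ⧸ R)) : t'⁻¹ * t ∈ R)
          rw [powMonoidHom_apply, eq_inv_mul_iff_mul_eq] at hs
          refine (class_eq_iff _ _).mpr ⟨s, ?_⟩
          have hpow : (sc n s * g t') ^ r = sc n t := by
            have hc : Commute (sc n s) (g t') := (Subgroup.mem_center_iff.mp (sc_center s) _).symm
            rw [hc.mul_pow, hg, sc, ← map_pow, ← map_mul, ← hs, mul_comm (s ^ r)]
          exact Cfsg.Agent.H29.Semisimple.gl_conj_of_charpoly (p := p) _ _ (coprime_of_pow_scalar hrq hpow)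
            (coprime_of_pow_scalar hrq hx) (by rw [(hcp2 _ t hpow ht).2, (hcp2 _ t hx ht).2])
      rw [← Nat.card_eq_of_bijective Φ hΦ, mul_one]
      show Nat.card ({c : Fˣ ⧸ R | c ≠ 1} : Set _) = r - 1
      rw [Nat.card_coe_set_eq, show {c : Fˣ ⧸ R | c ≠ 1} = {1}ᶜ from rfl, Set.ncard_compl, Set.ncard_singleton,
        ← Subgroup.index_eq_card, hR, IsCyclic.index_powMonoidHom_range, Nat.card_units, Nat.card_eq_fintype_card,
        Nat.gcd_eq_right hrq]
    · rw [mul_zero, Nat.card_eq_zero]
      exact Or.inl ⟨fun ⟨K, x, t, _, hx, ht⟩ => h (hcp2 x t hx ht).1⟩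
  -- assembling
  have hsplit : {K : ConjClasses PG | ∃ g : PG, ConjClasses.mk g = K ∧ orderOf g = r} =
      {K : ConjClasses PG | ∃ g : GL (Fin n) F, ConjClasses.mk (g : PG) = K ∧ g ^ r = sc n 1 ∧ orderOf (g : PG) = r} ∪
      {K : ConjClasses PG | ∃ (g : GL (Fin n) F) (t : Fˣ), ConjClasses.mk (g : PG) = K ∧ g ^ r = sc n t ∧ t ∉ R} := by
    ext K
    constructor
    · rintro ⟨g', rfl, ho⟩
      obtain ⟨g, rfl⟩ := QuotientGroup.mk_surjective g'
      obtain ⟨⟨t, ht⟩, -⟩ := (hord g).mp ho
      by_cases htR : t ∈ R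
      · obtain ⟨s, hs⟩ := htR
        have hc : Commute (sc n s⁻¹) g := (Subgroup.mem_center_iff.mp (sc_center _) g).symm
        have he : ((sc n s⁻¹ * g : GL (Fin n) F) : PG) = (g : PG) := by
          rw [QuotientGroup.mk_mul, (mk_eq_one_iff _).mpr ⟨s⁻¹, rfl⟩, one_mul]
        refine Or.inl ⟨sc n s⁻¹ * g, by rw [he], ?_, by rw [he]; exact ho⟩
        rw [hc.mul_pow, ht, sc, ← map_pow, ← map_mul, ← hs, powMonoidHom_apply, inv_pow, inv_mul_cancel]
      · exact Or.inr ⟨g, t, rfl, ht, htR⟩
    · rintro (⟨g, rfl, -, ho⟩ | ⟨g, t, rfl, hg, ht⟩)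
      · exact ⟨g, rfl, ho⟩
      · refine ⟨g, rfl, (hord g).mpr ⟨⟨t, hg⟩, fun ⟨s, hs⟩ => ht ⟨s, ?_⟩⟩⟩
        rw [hs, sc, ← map_pow] at hg
        exact sc_injective (by omega) hg
  have hdis : Disjoint
      {K : ConjClasses PG | ∃ g : GL (Fin n) F, ConjClasses.mk (g : PG) = K ∧ g ^ r = sc n 1 ∧ orderOf (g : PG) = r}
      {K : ConjClasses PG | ∃ (g : GL (Fin n) F) (t : Fˣ), ConjClasses.mk (g : PG) = K ∧ g ^ r = sc n t ∧ t ∉ R} := by
    rw [Set.disjoint_left]
    rintro K ⟨g, rfl, hg, -⟩ ⟨g', t, h, hg', ht⟩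
    exact ht ((QuotientGroup.eq_one_iff _).mp ((hinv g g' 1 t hg hg' h.symm).symm))
  show Nat.card ({K : ConjClasses PG | ∃ g : PG, ConjClasses.mk g = K ∧ orderOf g = r} : Set _) = _
  rw [hsplit, Nat.card_coe_set_eq, Set.ncard_union_eq hdis, ← Nat.card_coe_set_eq, ← Nat.card_coe_set_eq]
  show Nat.card Sp + Nat.card Ns = _
  rw [hSp, hNs, hcardA]
  have := hrP.pos
  split_ifs <;> omega

end CfsgLib.PrimeClasses
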